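import Mathlib
import Cfsg.Agent.Lib.GLFlags.Unipotent
import Cfsg.Agent.Lib.LinGroup.SylowCard
import Cfsg.Agent.Lib.LinGroup.Order
import Cfsg.Agent.Lib.Chars.PResidualDegree
import Cfsg.Agent.Lib.Chars.Ops
import Cfsg.Agent.Lib.Chars.DefectZero

/-!
# The Steinberg character of `GL_n(F)`, `SL_n(F)` and `PSL_n(F)`
-/

set_option autoImplicit false

namespace Cfsg.Agent.Lib.SteinbergGL

open Cfsg Finset
open Cfsg.Agent.Lib.GLFlags (qInt qFact qFalling triSum)
open scoped MatrixGroups

universe u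

theorem prod_qInt_shift {q : ℕ} (hq : 1 ≤ q) (j : ℕ) :
    ∏ i ∈ range j, ((qInt q (j + 1) : ℂ) - (qInt q (i + 1) : ℂ)) =
      ((q ^ triSum (j + 1) * qFact q j : ℕ) : ℂ) := by
  have h := GLFlags.prod_qInt_sub (R := ℂ) q (j + 1) (j + 1)
  rw [Finset.prod_range_succ'] at h
  have hf : qFalling q (j + 1) (j + 1) = qFact q (j + 1) := by
    have := GLFlags.qFalling_mul_qFact q (j + 1) (j + 1) le_rfl
    simpa [qFact] using this
  have hs : qFact q (j + 1) = qFact q j * qInt q (j + 1) := by
    rw [qFact, Finset.prod_range_succ, ← qFact]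
  have hne : ((qInt q (j + 1) : ℕ) : ℂ) ≠ 0 := by
    have : qInt q 0 < qInt q (j + 1) := GLFlags.qInt_lt hq (by omega)
    exact_mod_cast (show qInt q (j + 1) ≠ 0 by omega)
  have h0 : ((qInt q 0 : ℕ) : ℂ) = 0 := by simp [qInt]
  rw [hf, hs, h0, sub_zero] at h
  refine mul_right_cancel₀ hne (h.trans ?_)
  push_cast
  ring

theorem sum_triSum_succ (n : ℕ) :
    ∑ j ∈ range n, triSum (j + 1) = n * (n - 1) * (n - 2) / 6 + n * (n - 1) / 2 := by
  rw [← GLFlags.sum_triSum, ← Finset.sum_range_id, ← Finset.sum_add_distrib]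
  exact Finset.sum_congr rfl fun j _ => by rw [triSum, Finset.sum_range_succ, triSum]

variable {F : Type u} [Field F] [Fintype F] {n : ℕ}

/-- The Steinberg character of `GL_n(F)`. -/
noncomputable def stGL (n : ℕ) (F : Type u) [Field F] : GL (Fin n) F → ℂ :=
  unipotentCharacterGL n F (fun _ => 1)

theorem stGL_one : stGL n F 1 = (Fintype.card F : ℂ) ^ (n * (n - 1) / 2) := by
  set q := Fintype.card F with hqdef
  have hq : 1 ≤ q := Fintype.card_pos
  have h := GLFlags.degree_formula (F := F) (fun _ : Fin n => 1) (by simp)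
  rw [← hqdef] at h
  have hswap : (∏ i : Fin n, ∏ j ∈ Ioi i, ((qInt q (1 + j.val) : ℂ) - (qInt q (1 + i.val) : ℂ))) =
      ∏ j : Fin n, ∏ i ∈ range j.val, ((qInt q (j.val + 1) : ℂ) - (qInt q (i + 1) : ℂ)) := by
    rw [Finset.prod_comm' (t' := univ) (s' := fun j => Iio j) (by simp)]
    refine Finset.prod_congr rfl fun j _ => ?_
    refine Finset.prod_bij (fun i _ => i.val) (fun i hi => by simpa using hi)
      (fun a _ b _ e => Fin.ext e) (fun b hb => ?_) (fun i _ => by rw [add_comm 1, add_comm 1])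
    have hbn : b < n := (mem_range.1 hb).trans j.2
    exact ⟨⟨b, hbn⟩, by simpa [Fin.lt_def] using mem_range.1 hb, rfl⟩
  rw [hswap, Finset.prod_congr rfl fun (j : Fin n) _ => prod_qInt_shift hq j.val,
    Fin.prod_univ_eq_prod_range (fun j => ((q ^ triSum (j + 1) * qFact q j : ℕ) : ℂ)) n] at h
  push_cast at h
  rw [Finset.prod_mul_distrib, Finset.prod_pow_eq_pow_sum, sum_triSum_succ,
    Fin.prod_univ_eq_prod_range (fun i => (qFact q (1 + i) : ℂ)) n, ← Nat.cast_prod] at h
  have hshift : ∏ i ∈ range n, qFact q (1 + i) = qFact q n * ∏ i ∈ range n, qFact q i := by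
    have h1 := Finset.prod_range_succ (qFact q) n
    rw [Finset.prod_range_succ'] at h1
    rw [show qFact q 0 = 1 from rfl, mul_one] at h1
    rw [Finset.prod_congr rfl fun i _ => by rw [add_comm 1 i], h1, mul_comm]
  rw [hshift] at h
  have h0 : ((qFact q n * ∏ i ∈ range n, qFact q i : ℕ) : ℂ) ≠ 0 := by
    have := Nat.mul_pos (GLFlags.qFact_pos hq n)
      (Finset.prod_pos fun i (_ : i ∈ range n) => GLFlags.qFact_pos hq i)
    exact_mod_cast this.ne'
  have hqne : (q : ℂ) ^ (n * (n - 1) * (n - 2) / 6) ≠ 0 :=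
    pow_ne_zero _ (by exact_mod_cast (show q ≠ 0 by omega))
  refine mul_right_cancel₀ h0 (mul_right_cancel₀ hqne ?_)
  rw [stGL]
  push_cast [pow_add] at h ⊢
  linear_combination h

theorem isIrr_stGL : IsIrrCharacter (GL (Fin n) F) (stGL n F) :=
  GLFlags.isIrrCharacter_unipotent (monotone_const) (by simp)

omit [Fintype F] in
theorem stGL_scalar {z : GL (Fin n) F} {r : F}
    (hz : (z : Matrix (Fin n) (Fin n) F) = Matrix.scalar (Fin n) r) : stGL n F z = stGL n F 1 := by
  rw [stGL, GLFlags.unipotentCharacterGL_eq]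
  simp only [Finset.sum_apply, Pi.smul_apply]
  refine Finset.sum_congr rfl fun κ _ => ?_
  congr 1
  simp only [fixedPointCharacter]
  congr 2
  refine congrArg _ (Set.ext fun x => ?_)
  induction x using QuotientGroup.induction_on with
  | H g =>
    simp only [MulAction.mem_fixedBy, one_smul, iff_true]
    have hc : z * g = g * z := by
      apply Units.ext
      rw [Units.val_mul, Units.val_mul, hz]
      exact (Matrix.scalar_commute r (fun s => Commute.all r s) _).eq
    rw [MulAction.Quotient.smul_coe, smul_eq_mul, hc]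
    refine QuotientGroup.mk_mul_of_mem g ?_
    show (z : Matrix (Fin n) (Fin n) F).BlockTriangular _
    rw [hz, Matrix.scalar_apply]
    exact Matrix.blockTriangular_diagonal _

/-- The Steinberg character of `SL_n(F)`. -/
theorem isIrr_stSL [NeZero n] (p : ℕ) [Fact p.Prime] [CharP F p] :
    IsIrrCharacter (Matrix.SpecialLinearGroup (Fin n) F)
      (fun g => stGL n F (Matrix.SpecialLinearGroup.toGL g)) := by
  classical
  let χ : IrrCharacter (GL (Fin n) F) := ⟨stGL n F, isIrr_stGL⟩
  set N := (Matrix.GeneralLinearGroup.det : GL (Fin n) F →* Fˣ).ker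
  have hdeg : charDegree (χ : GL (Fin n) F → ℂ) = Fintype.card F ^ (n * (n - 1) / 2) := by
    have h := (Chars.charDegree_spec χ).2
    rw [show (χ : GL (Fin n) F → ℂ) = stGL n F from rfl, stGL_one] at h
    exact_mod_cast h.symm
  have hidx : N.index = Fintype.card F - 1 := by
    rw [Subgroup.index_ker, MonoidHom.range_eq_top.2 Matrix.GeneralLinearGroup.det_surjective,
      Subgroup.card_top, LinGroup.card_units_eq_sub_one]
  have hcop : Nat.Coprime N.index (charDegree (χ : GL (Fin n) F → ℂ)) := by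
    rw [hdeg, hidx]
    refine Nat.Coprime.pow_right _ ?_
    have h1 : 1 ≤ Fintype.card F := Fintype.card_pos
    have h2 : Nat.Coprime (Fintype.card F - 1) (Fintype.card F - 1 + 1) := by simp
    rwa [Nat.sub_add_cancel h1] at h2
  have h := Chars.isIrrCharacter_comp_surjective
    (LinGroup.slEquivKerDet (ι := Fin n) (R := F)).toMonoidHom
    (LinGroup.slEquivKerDet (ι := Fin n) (R := F)).surjective
    (Chars.restrict_irr_of_coprime N χ hcop)
  exact h

/-- The Steinberg character of `PSL_n(F)`. -/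
theorem exists_stPSL [NeZero n] (p : ℕ) [Fact p.Prime] [CharP F p] :
    ∃ χ : Matrix.ProjectiveSpecialLinearGroup (Fin n) F → ℂ,
      IsIrrCharacter (Matrix.ProjectiveSpecialLinearGroup (Fin n) F) χ ∧
      ∀ P : Sylow p (Matrix.ProjectiveSpecialLinearGroup (Fin n) F), χ 1 = Nat.card P ∧
        ∀ x : Matrix.ProjectiveSpecialLinearGroup (Fin n) F, x ∈ P → x ≠ 1 → χ x = 0 := by
  classical
  have hp := (Fact.out : p.Prime)
  set S := Matrix.SpecialLinearGroup (Fin n) F
  set Z := Subgroup.center S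
  let θ : IrrCharacter S := ⟨fun g => stGL n F (Matrix.SpecialLinearGroup.toGL g), isIrr_stSL p⟩
  obtain ⟨ψ, hψ⟩ := Chars.exists_irr_quotient Z θ (fun z hz => by
    obtain ⟨r, -, hr⟩ := Matrix.SpecialLinearGroup.mem_center_iff.1 hz
    show stGL n F _ = stGL n F (Matrix.SpecialLinearGroup.toGL 1)
    rw [map_one]
    exact stGL_scalar (r := r) hr.symm)
  have hZ : ¬ p ∣ Nat.card Z := by
    intro h
    obtain ⟨z, hz⟩ := exists_prime_orderOf_dvd_card' p h
    obtain ⟨r, -, hr⟩ := Matrix.SpecialLinearGroup.mem_center_iff.1 z.2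
    have h1 : (z : S) ^ p = 1 := by rw [← hz, ← Subgroup.orderOf_coe, pow_orderOf_eq_one]
    have h3 := congrArg (fun t : S => (t : Matrix (Fin n) (Fin n) F)) h1
    rw [Matrix.SpecialLinearGroup.coe_pow, ← hr, ← map_pow] at h3
    have h2 : r ^ p = 1 := by simpa using congrFun (congrFun h3 0) 0
    have hr1 : r = 1 := by
      refine sub_eq_zero.1 (eq_zero_of_pow_eq_zero (n := p) ?_)
      rw [sub_pow_char, h2, one_pow, sub_self]
    have : (z : S) = 1 := Subtype.ext (by rw [← hr, hr1, map_one]; rfl)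
    rw [← Subgroup.orderOf_coe, this, orderOf_one] at hz
    exact hp.ne_one hz.symm
  have hfac : (Nat.card (S ⧸ Z)).factorization p = (Nat.card S).factorization p := by
    rw [Subgroup.card_eq_card_quotient_mul_card_subgroup Z,
      Nat.factorization_mul Nat.card_pos.ne' Nat.card_pos.ne', Finsupp.add_apply,
      Nat.factorization_eq_zero_of_not_dvd hZ, add_zero]
  set e := (Nat.card (S ⧸ Z)).factorization p
  have h1 : (ψ : S ⧸ Z → ℂ) 1 = ((p ^ e : ℕ) : ℂ) := by
    rw [← QuotientGroup.mk_one, hψ]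
    show stGL n F (Matrix.SpecialLinearGroup.toGL 1) = _
    rw [map_one, stGL_one, hfac, LinGroup.factorization_card_SL p n, Nat.cast_pow]
  refine ⟨ψ, ψ.2, fun P => ⟨?_, fun x hx hx1 => ?_⟩⟩
  · rw [P.card_eq_multiplicity]; exact h1
  · obtain ⟨m, σ, hσ, hσψ⟩ := ψ.2
    have hm : m = p ^ e := by
      have h2 := h1
      rw [← hσψ, Representation.char_one, Module.finrank_fintype_fun_eq_card, Fintype.card_fin] at h2
      exact_mod_cast h2
    rw [← hσψ]
    refine Chars.char_eq_zero_of_defect_zero σ hp (n := e) (Nat.ordProj_dvd _ _)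
      (Nat.pow_succ_factorization_not_dvd Nat.card_pos.ne' hp)
      (by rw [Module.finrank_fintype_fun_eq_card, Fintype.card_fin, hm]) _ ?_
    obtain ⟨k, hk⟩ := IsPGroup.iff_orderOf.1 P.2 ⟨x, hx⟩
    rw [← Subgroup.orderOf_coe] at hk
    rw [show orderOf x = p ^ k from hk]
    refine dvd_pow_self p fun hk0 => hx1 ?_
    rwa [hk0, pow_zero, orderOf_eq_one_iff] at hk

end Cfsg.Agent.Lib.SteinbergGL
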